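import Mathlib
import Groth.Agent.Lib.Helper5.Curve2.G
import Groth.Agent.Lib.Lead.PN.AmpleDev2
import Groth.Agent.Lib.Lead.QC.AffineAmple
import Groth.Agent.Lib.Lead.QC.PullInv
import Groth.Agent.Lib.Helper3.ConsDim

/-!
# Ampleness on a proper scheme of dimension `≤ 1`: positivity of the degree on the components.
-/

set_option autoImplicit false
universe u
open CategoryTheory CategoryTheory.Limits AlgebraicGeometry TopologicalSpace Opposite

namespace Groth.Agent.H5.Curve3

open Groth.Agent.LD Groth.Agent.LD.QC

section

variable {X : Scheme.{u}}

/-- the closed subscheme of a radical ideal sheaf is reduced. -/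
theorem isReduced_radical_subscheme (I : X.IdealSheafData) : IsReduced I.radical.subscheme := by
  haveI : ∀ U, AlgebraicGeometry.IsReduced (I.radical.subschemeCover.openCover.X U) := fun U => by
    have h : ((I.radical).ideal U).IsRadical := by
      rw [Scheme.IdealSheafData.radical_ideal]
      exact Ideal.radical_isRadical _
    have := (Ideal.isRadical_iff_quotient_reduced _).mp h
    exact (affine_isReduced_iff (.of (Γ(X, (U : X.affineOpens).1) ⧸ I.radical.ideal U))).mpr this
  exact IsReduced.of_openCover (X := I.radical.subscheme) I.radical.subschemeCover.openCover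

end

section top

variable {T : Type*} [TopologicalSpace T]

/-- two distinct points in a specialization chain force dimension at least one. -/
lemma one_le_dim_of_chain [T0Space T] {x y : T} (h2 : x ⤳ y) (hne2 : x ≠ y) :
    (1 : WithBot ℕ∞) ≤ topologicalKrullDim T := by
  let c : T → IrreducibleCloseds T := fun p =>
    ⟨closure {p}, isIrreducible_singleton.closure, isClosed_closure⟩
  have hlt : ∀ {a b : T}, a ⤳ b → a ≠ b → c b < c a := by
    intro a b hab hne
    refine lt_of_le_of_ne ?_ ?_
    · change closure {b} ⊆ closure {a}
      exact closure_minimal (Set.singleton_subset_iff.mpr (specializes_iff_mem_closure.mp hab))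
        isClosed_closure
    · intro heq
      have : closure {b} = closure {a} := congrArg (fun s : IrreducibleCloseds T => (s : Set T)) heq
      have ha : a ∈ closure {b} := by rw [this]; exact subset_closure rfl
      have hba : b ⤳ a := specializes_iff_mem_closure.mpr ha
      exact hne (hab.antisymm hba).eq
  let s : LTSeries (IrreducibleCloseds T) :=
    { length := 1
      toFun := ![c y, c x]
      step := by
        intro i
        fin_cases i
        exact hlt h2 hne2 }
  have := Order.LTSeries.length_le_krullDim s
  exact this

/-- three distinct points in a specialization chain force dimension at least two. -/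
lemma two_le_dim_of_chain [T0Space T] {x' x y : T} (h1 : x' ⤳ x) (h2 : x ⤳ y) (hne1 : x' ≠ x)
    (hne2 : x ≠ y) : (2 : WithBot ℕ∞) ≤ topologicalKrullDim T := by
  let c : T → IrreducibleCloseds T := fun p =>
    ⟨closure {p}, isIrreducible_singleton.closure, isClosed_closure⟩
  have hlt : ∀ {a b : T}, a ⤳ b → a ≠ b → c b < c a := by
    intro a b hab hne
    refine lt_of_le_of_ne ?_ ?_
    · change closure {b} ⊆ closure {a}
      exact closure_minimal (Set.singleton_subset_iff.mpr (specializes_iff_mem_closure.mp hab))
        isClosed_closure
    · intro heq
      have : closure {b} = closure {a} := congrArg (fun s : IrreducibleCloseds T => (s : Set T)) heq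
      have ha : a ∈ closure {b} := by rw [this]; exact subset_closure rfl
      have hba : b ⤳ a := specializes_iff_mem_closure.mpr ha
      exact hne (hab.antisymm hba).eq
  let s : LTSeries (IrreducibleCloseds T) :=
    { length := 2
      toFun := ![c y, c x, c x']
      step := by
        intro i
        fin_cases i
        · exact hlt h2 hne2
        · exact hlt h1 hne1 }
  have := Order.LTSeries.length_le_krullDim s
  exact this

end top

section

variable {X : Scheme.{u}} [IsNoetherian X]

/-- the reduced induced structure on an irreducible component is irreducible. -/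
theorem irreducibleSpace_comp (C : Set X) (hC : C ∈ irreducibleComponents (X : Type u)) :
    IrreducibleSpace ((X.irreducibleComponentIdeal C hC).radical.subscheme) :=
  Subtype.irreducibleSpace hC.1

end

variable (k : Type u) [Field k] (X : Scheme.{u}) [X.Over (Spec (CommRingCat.of k))]
  [IsProper (X ↘ Spec (CommRingCat.of k))] [IsNoetherian X]

/-- the data attached to a one dimensional component: properness, integrality. -/
theorem comp_facts (C : Set X) (hC : C ∈ irreducibleComponents (X : Type u)) :
    IsProper ((X.irreducibleComponentIdeal C hC).radical.subschemeι ≫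
      (X ↘ (Spec (CommRingCat.of k)))) ∧
    IsIntegral ((X.irreducibleComponentIdeal C hC).radical.subscheme) := by
  refine ⟨inferInstance, ?_⟩
  haveI : IsReduced (X.irreducibleComponentIdeal C hC).radical.subscheme :=
    isReduced_radical_subscheme _
  haveI : IrreducibleSpace (X.irreducibleComponentIdeal C hC).radical.subscheme :=
    irreducibleSpace_comp C hC
  exact isIntegral_of_irreducibleSpace_of_isReduced _

theorem ample_imp (L : X.Modules)
    (hA : CohB1.IsAmple L) (C : Set X) (hC : C ∈ irreducibleComponents (X : Type u))
    (hdimC : topologicalKrullDim C = 1) :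
    0 < @Curv2.deg k _ (X.irreducibleComponentIdeal C hC).radical.subscheme
      ⟨(X.irreducibleComponentIdeal C hC).radical.subschemeι ≫ (X ↘ (Spec (CommRingCat.of k)))⟩
      ((Scheme.Modules.pullback (X.irreducibleComponentIdeal C hC).radical.subschemeι).obj L) 1 := by
  letI : (X.irreducibleComponentIdeal C hC).radical.subscheme.Over (Spec (CommRingCat.of k)) :=
    ⟨(X.irreducibleComponentIdeal C hC).radical.subschemeι ≫ (X ↘ (Spec (CommRingCat.of k)))⟩
  haveI : IsProper ((X.irreducibleComponentIdeal C hC).radical.subscheme ↘
      Spec (CommRingCat.of k)) := (comp_facts k X C hC).1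
  haveI : IsIntegral (X.irreducibleComponentIdeal C hC).radical.subscheme := (comp_facts k X C hC).2
  have hA' := PN.AmD.isAmple_pullback_of_isAffineHom
    (X.irreducibleComponentIdeal C hC).radical.subschemeι L hA
  exact Curve2.deg_pos_of_isAmple k _ hdimC hA'

theorem ample_of_deg_pos_comp (L : X.Modules) (hL : PicF.IsInvertible L)
    (C : Set X) (hC : C ∈ irreducibleComponents (X : Type u))
    (hdimC : topologicalKrullDim C ≤ 1)
    (h : 0 < @Curv2.deg k _ (X.irreducibleComponentIdeal C hC).radical.subscheme
      ⟨(X.irreducibleComponentIdeal C hC).radical.subschemeι ≫ (X ↘ (Spec (CommRingCat.of k)))⟩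
      ((Scheme.Modules.pullback (X.irreducibleComponentIdeal C hC).radical.subschemeι).obj L) 1) :
    CohB1.IsAmple
      ((Scheme.Modules.pullback (X.irreducibleComponentIdeal C hC).radical.subschemeι).obj L) := by
  letI : (X.irreducibleComponentIdeal C hC).radical.subscheme.Over (Spec (CommRingCat.of k)) :=
    ⟨(X.irreducibleComponentIdeal C hC).radical.subschemeι ≫ (X ↘ (Spec (CommRingCat.of k)))⟩
  haveI : IsProper ((X.irreducibleComponentIdeal C hC).radical.subscheme ↘
      Spec (CommRingCat.of k)) := (comp_facts k X C hC).1
  haveI : IsIntegral (X.irreducibleComponentIdeal C hC).radical.subscheme := (comp_facts k X C hC).2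
  exact Curve2.isAmple_of_deg_pos k _ hdimC
    (isInvertible_pullback (X.irreducibleComponentIdeal C hC).radical.subschemeι hL) h

/-- **S7642**: on a proper scheme of dimension `≤ 1` over a field, an invertible module is ample
iff its degree on every one dimensional irreducible component (reduced structure) is positive. -/
theorem isAmple_iff_deg_pos (hdim : topologicalKrullDim X ≤ 1) (L : X.Modules)
    (hL : PicF.IsInvertible L) :
    CohB1.IsAmple L ↔ ∀ (C : Set X) (hC : C ∈ irreducibleComponents (X : Type u)),
      topologicalKrullDim C = 1 → 0 < @Curv2.deg k _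
        (X.irreducibleComponentIdeal C hC).radical.subscheme
        ⟨(X.irreducibleComponentIdeal C hC).radical.subschemeι ≫ (X ↘ (Spec (CommRingCat.of k)))⟩
        ((Scheme.Modules.pullback (X.irreducibleComponentIdeal C hC).radical.subschemeι).obj L)
        1 := by
  constructor
  · intro hA C hC hdimC
    exact ample_imp k X L hA C hC hdimC
  · intro h
    refine PN.AmD.isAmple_of_integral_closed k (X ↘ Spec (CommRingCat.of k)) L hL
      (fun Z i hi hZ => ?_)
    haveI := hi
    haveI := hZ
    by_cases hsub : Subsingleton Z
    · haveI := hsub
      haveI : IsAffine Z := Groth.Agent.H3.ConsDim.isAffine_of_subsingleton Z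
      exact isAmple_of_isAffine _ (isInvertible_pullback i hL)
    · rw [not_subsingleton_iff_nontrivial] at hsub
      obtain ⟨z, hz⟩ := exists_ne (genericPoint Z)
      have hηz : genericPoint Z ⤳ z := genericPoint_specializes z
      have hxy : i (genericPoint Z) ⤳ i z := hηz.map i.continuous
      have hinj : Function.Injective i := i.isClosedEmbedding.injective
      have hne : i (genericPoint Z) ≠ i z := fun h => hz (hinj h).symm
      set x := i (genericPoint Z) with hx
      set C := irreducibleComponent x with hCdef
      have hC : C ∈ irreducibleComponents (X : Type u) := irreducibleComponent_mem_irreducibleComponents x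
      have hCirr : IsIrreducible C := hC.1
      have hCcl : IsClosed C := isClosed_of_mem_irreducibleComponents C hC
      obtain ⟨x', hx'⟩ := QuasiSober.sober hCirr hCcl
      have hxC : x ∈ C := mem_irreducibleComponent
      have hx'x : x' ⤳ x := by
        rw [specializes_iff_mem_closure, hx'.def]; exact hxC
      have hx'eq : x' = x := by
        by_contra hcon
        have h2 := two_le_dim_of_chain hx'x hxy hcon hne
        have : (2 : WithBot ℕ∞) ≤ 1 := h2.trans hdim
        exact absurd this (by decide)
      have hCeq : C = closure {x} := by rw [← hx'eq]; exact hx'.def.symm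
      have hrange : Set.range i = C := by
        rw [hCeq, hx, ← Set.image_singleton, i.isClosedEmbedding.closure_image_eq,
          genericPoint_closure, Set.image_univ]
      have hyC : i z ∈ C := by rw [← hrange]; exact ⟨z, rfl⟩
      have hdimC : topologicalKrullDim C = 1 := by
        apply le_antisymm
        · exact (topologicalKrullDim_subspace_le X C).trans hdim
        · have hs : (⟨x, hxC⟩ : C) ⤳ ⟨i z, hyC⟩ :=
            (Topology.IsInducing.subtypeVal.specializes_iff).mp hxy
          exact one_le_dim_of_chain hs (fun h => hne (congrArg Subtype.val h))
      have hamp := ample_of_deg_pos_comp k X L hL C hC hdimC.le (h C hC hdimC)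
      exact PN.AmD.isAmple_pullback_of_lift i (X.irreducibleComponentIdeal C hC).radical
        (by rw [hrange]; exact le_rfl) L hamp

end Groth.Agent.H5.Curve3
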