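import Mathlib
import Groth.Agent.Lib.Helper5.Curve2.M
import Groth.Agent.Lib.Helper5.Curve3.Comp

/-!
# Surjectivity on `H¹` for maps with cokernel supported at closed points (dimension `≤ 1`).
-/

set_option autoImplicit false
universe u
open CategoryTheory CategoryTheory.Limits AlgebraicGeometry TopologicalSpace Opposite

namespace Groth.Agent.H5.Curve3

open Groth.Agent.LD Groth.Agent.LD.QC Groth.Agent.H5.Glue

section top

variable {T : Type*} [TopologicalSpace T]

/-- a dense open subset of a Noetherian space meets every irreducible component. -/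
lemma dense_inter_component_nonempty [NoetherianSpace T] (U : Set T) (hUo : IsOpen U)
    (hU : Dense U) (C : Set T) (hC : C ∈ irreducibleComponents T) : (C ∩ U).Nonempty := by
  by_contra hcon
  rw [Set.not_nonempty_iff_eq_empty] at hcon
  have hfin : (irreducibleComponents T).Finite := NoetherianSpace.finite_irreducibleComponents
  have hfin' : (irreducibleComponents T \ {C}).Finite := hfin.subset Set.sdiff_subset
  have hcl : IsClosed (⋃₀ (irreducibleComponents T \ {C})) := by
    rw [Set.sUnion_eq_biUnion]
    exact Set.Finite.isClosed_biUnion hfin'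
      (fun D hD => isClosed_of_mem_irreducibleComponents D hD.1)
  have hsub : U ⊆ ⋃₀ (irreducibleComponents T \ {C}) := by
    intro y hy
    have hyC : y ∉ C := fun h => by
      have : y ∈ C ∩ U := ⟨h, hy⟩
      rw [hcon] at this
      exact this
    have hy' : y ∈ ⋃₀ irreducibleComponents T := by
      rw [sUnion_irreducibleComponents]; trivial
    obtain ⟨D, hD, hyD⟩ := hy'
    refine ⟨D, ⟨hD, ?_⟩, hyD⟩
    rintro rfl
    exact hyC hyD
  have huniv : (Set.univ : Set T) ⊆ ⋃₀ (irreducibleComponents T \ {C}) := by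
    rw [← hU.closure_eq]
    exact closure_minimal hsub hcl
  have hCsub : C ⊆ ⋃₀ (irreducibleComponents T \ {C}) := fun y _ => huniv trivial
  obtain ⟨D, hD, hCD⟩ := (isIrreducible_iff_sUnion_isClosed.mp hC.1) hfin'.toFinset
    (fun D hD => isClosed_of_mem_irreducibleComponents D (hfin'.mem_toFinset.mp hD).1)
    (by simpa using hCsub)
  have hD' := hfin'.mem_toFinset.mp hD
  have : C = D := le_antisymm hCD (hC.2 hD'.1.1 hCD)
  exact hD'.2 this.symm

/-- in a Noetherian sober space of dimension `≤ 1`, the points outside a dense open subset are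
closed. -/
lemma isClosed_singleton_of_notMem_dense [NoetherianSpace T] [QuasiSober T] [T0Space T]
    (hdim : topologicalKrullDim T ≤ 1) (U : Set T) (hUo : IsOpen U) (hU : Dense U) (x : T)
    (hx : x ∉ U) : IsClosed ({x} : Set T) := by
  by_contra hcl
  have hne : closure ({x} : Set T) ≠ {x} := fun h => hcl (h ▸ isClosed_closure)
  obtain ⟨y, hy, hyx⟩ : ∃ y ∈ closure ({x} : Set T), y ≠ x := by
    by_contra hcon
    push Not at hcon
    apply hne
    apply Set.Subset.antisymm
    · intro y hy; exact hcon y hy
    · exact subset_closure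
  have hxy : x ⤳ y := specializes_iff_mem_closure.mpr hy
  set C := irreducibleComponent x with hCdef
  have hC : C ∈ irreducibleComponents T := irreducibleComponent_mem_irreducibleComponents x
  obtain ⟨x', hx'⟩ := QuasiSober.sober hC.1 (isClosed_of_mem_irreducibleComponents C hC)
  have hxC : x ∈ C := mem_irreducibleComponent
  have hx'x : x' ⤳ x := by
    rw [specializes_iff_mem_closure, hx'.def]; exact hxC
  have hx'eq : x' = x := by
    by_contra hcon
    have h2 := two_le_dim_of_chain hx'x hxy hcon hyx.symm
    have : (2 : WithBot ℕ∞) ≤ 1 := h2.trans hdim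
    exact absurd this (by decide)
  obtain ⟨z, hzC, hzU⟩ := dense_inter_component_nonempty U hUo hU C hC
  rw [← hx'.def, hx'eq] at hzC
  obtain ⟨w, hwU, hw⟩ := mem_closure_iff.mp hzC U hUo hzU
  rw [Set.mem_singleton_iff] at hw
  exact hx (hw ▸ hwU)

end top

section

variable (k : Type u) [Field k] (X : Scheme.{u}) [X.Over (Spec (CommRingCat.of k))]
  [IsProper (X ↘ Spec (CommRingCat.of k))]

/-- **`H¹` is right exact up to torsion on a proper scheme of dimension `≤ 1`**: a map of coherent
modules which is locally surjective at all non-closed points induces a surjection on `H¹`. -/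
theorem surjective_H1_of_locSurjAt (hdim : topologicalKrullDim X ≤ 1) {A B : X.Modules}
    (hA : Coh.IsCoh A) (hB : Coh.IsCoh B) (ψ : A ⟶ B)
    (hloc : ∀ x : X, ¬ IsClosed ({x} : Set X) → LocSurjAt ψ x) :
    Function.Surjective (CL.HHmap k ψ 1) := by
  haveI := Curve.isLocallyNoetherian k X
  have hK : Coh.IsCoh (kernel ψ) := isCoh_kernel ψ hA hB
  have hC : Coh.IsCoh (Abelian.coimage ψ) := isCoh_cokernel (kernel.ι ψ) hK hA
  have hQ : Coh.IsCoh (cokernel (Abelian.factorThruCoimage ψ)) := isCoh_cokernel _ hC hB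
  let S₁ : ShortComplex X.Modules :=
    ShortComplex.mk (kernel.ι ψ) (Abelian.coimage.π ψ) (cokernel.condition _)
  have hS₁ : S₁.ShortExact :=
    { exact := ShortComplex.exact_of_g_is_cokernel _ (cokernelIsCokernel (kernel.ι ψ))
      mono_f := inferInstanceAs (Mono (kernel.ι ψ))
      epi_g := inferInstanceAs (Epi (cokernel.π (kernel.ι ψ))) }
  let S₂ : ShortComplex X.Modules :=
    ShortComplex.mk (Abelian.factorThruCoimage ψ) (cokernel.π _) (cokernel.condition _)
  have hS₂ : S₂.ShortExact :=
    { exact := ShortComplex.exact_of_g_is_cokernel _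
        (cokernelIsCokernel (Abelian.factorThruCoimage ψ))
      mono_f := inferInstanceAs (Mono (Abelian.factorThruCoimage ψ))
      epi_g := inferInstanceAs (Epi (cokernel.π (Abelian.factorThruCoimage ψ))) }
  haveI : (kernel ψ).IsQuasicoherent := hK.1
  have h2 : Subsingleton (Coh.HH X (kernel ψ) (1 + 1)) :=
    Curve.subsingleton_HH_of_two_le k X hdim (kernel ψ) 2 le_rfl
  have hpt : ∀ x : X, ¬ Subsingleton ((cokernel (Abelian.factorThruCoimage ψ)).presheaf.stalk x) →
      IsClosed ({x} : Set X) := by
    intro x hx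
    by_contra hcl
    apply hx
    apply Curve2.subsingleton_stalk_cokernel_of_locSurjAt
    apply LocSurjAt.of_comp (Abelian.coimage.π ψ)
    have : Abelian.coimage.π ψ ≫ Abelian.factorThruCoimage ψ = ψ :=
      Abelian.coimage.fac ψ
    rw [this]
    exact hloc x hcl
  have hZ := isClosed_support_of_isFiniteType _ hQ.2
  have h4 : Subsingleton (Coh.HH X (cokernel (Abelian.factorThruCoimage ψ)) (0 + 1)) :=
    SC.subsingleton_HH_of_support_closed_points _ hZ hpt 0
  intro b
  obtain ⟨c, hc⟩ := CL.exact₂ hS₂ k 1 b (h4.elim _ _)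
  obtain ⟨a, ha⟩ := CL.exact₃ hS₁ k 1 c (h2.elim _ _)
  refine ⟨a, ?_⟩
  have hfac : Abelian.coimage.π ψ ≫ Abelian.factorThruCoimage ψ = ψ := Abelian.coimage.fac ψ
  rw [← hfac, CL.HHmap_comp, LinearMap.comp_apply]
  change CL.HHmap k S₂.f 1 (CL.HHmap k S₁.g 1 a) = b
  rw [ha, hc]

end

end Groth.Agent.H5.Curve3
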