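import Mathlib
import Groth.Agent.Lib.Helper5.Glue.F
import Groth.Agent.Lib.Lead.QC.AmpleBasis

/-!
# The invertible module and section attached to a local equation on a two-set cover.
-/

set_option autoImplicit false
universe u
open CategoryTheory CategoryTheory.Limits AlgebraicGeometry TopologicalSpace Opposite

namespace Groth.Agent.H5.Curve3

open Groth.Agent.LD Groth.Agent.LD.QC Groth.Agent.H5.Glue

variable {X : Scheme.{u}}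

/-- the two-set cover. -/
def W2 (U₀ V₀ : X.Opens) : ULift.{u} Bool → X.Opens
  | ⟨false⟩ => U₀
  | ⟨true⟩ => V₀

/-- the cocycle attached to a unit on the overlap. -/
noncomputable def η2 (U₀ V₀ : X.Opens) (u v : Γ(X, U₀ ⊓ V₀)) :
    ∀ i j : ULift.{u} Bool, Γ(X, W2 U₀ V₀ i ⊓ W2 U₀ V₀ j)
  | ⟨false⟩, ⟨false⟩ => 1
  | ⟨false⟩, ⟨true⟩ => u
  | ⟨true⟩, ⟨false⟩ => res (le_of_eq (inf_comm V₀ U₀)) v
  | ⟨true⟩, ⟨true⟩ => 1

lemma isCocycle_η2 (U₀ V₀ : X.Opens) (u v : Γ(X, U₀ ⊓ V₀)) (huv : u * v = 1) :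
    IsCocycle (W2 U₀ V₀) (η2 U₀ V₀ u v) := by
  rintro ⟨_ | _⟩ ⟨_ | _⟩ ⟨_ | _⟩
  · simp [η2]
  · simp [η2]
  · have key : (1 : Γ(X, U₀ ⊓ V₀ ⊓ U₀)) =
        res (inf_le_left : U₀ ⊓ V₀ ⊓ U₀ ≤ U₀ ⊓ V₀) u *
          res (inf_le_left : U₀ ⊓ V₀ ⊓ U₀ ≤ U₀ ⊓ V₀) v := by
      rw [← map_mul, huv, map_one]
    refine (map_one _).trans (key.trans ?_)
    congr 1
    exact (Glue.res_res _ _ v).symm
  · simp [η2]
  · simp [η2]
  · have hvu : v * u = 1 := by rw [mul_comm]; exact huv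
    have key : (1 : Γ(X, V₀ ⊓ U₀ ⊓ V₀)) =
        res (le_inf (inf_le_left.trans inf_le_right) inf_le_right : V₀ ⊓ U₀ ⊓ V₀ ≤ U₀ ⊓ V₀) v *
          res (le_inf (inf_le_left.trans inf_le_right) inf_le_right :
            V₀ ⊓ U₀ ⊓ V₀ ≤ U₀ ⊓ V₀) u := by
      rw [← map_mul, hvu, map_one]
    refine (map_one _).trans (key.trans ?_)
    congr 1
    exact (Glue.res_res _ _ v).symm
  · simp [η2]
  · simp [η2]


/-- the local coefficients of the canonical section. -/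
noncomputable def a2 (U₀ V₀ : X.Opens) (f : Γ(X, V₀)) : ∀ i : ULift.{u} Bool, Γ(X, W2 U₀ V₀ i)
  | ⟨false⟩ => 1
  | ⟨true⟩ => f

lemma iSup_W2 (U₀ V₀ : X.Opens) (hcov : U₀ ⊔ V₀ = ⊤) : iSup (W2 U₀ V₀) = ⊤ := by
  apply le_antisymm le_top
  rw [← hcov]
  exact sup_le (le_iSup (W2 U₀ V₀) ⟨false⟩) (le_iSup (W2 U₀ V₀) ⟨true⟩)

/-- **the invertible module `O(D)` of a local equation `f` on `V₀`, invertible on `U₀ ⊓ V₀`,
with its canonical section.** -/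
theorem exists_invertible_of_two_cover (U₀ V₀ : X.Opens) (hcov : U₀ ⊔ V₀ = ⊤) (f : Γ(X, V₀))
    (hu : IsUnit (res (inf_le_right : U₀ ⊓ V₀ ≤ V₀) f)) :
    ∃ (L : X.Modules) (s : unitMod X ⟶ L), PicF.IsInvertible L ∧ U₀ ≤ CohB1.genLocus L s ∧
      CohB1.genLocus L s ⊓ V₀ = X.basicOpen f := by
  obtain ⟨w, hw⟩ := hu
  have huv : res (inf_le_right : U₀ ⊓ V₀ ≤ V₀) f * ((w⁻¹ : (Γ(X, U₀ ⊓ V₀))ˣ) : Γ(X, U₀ ⊓ V₀)) = 1 := by
    rw [← hw]; exact w.mul_inv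
  have hcoc := isCocycle_η2 U₀ V₀ _ _ huv
  have hunit : ∀ i, IsUnit (η2 U₀ V₀ (res (inf_le_right : U₀ ⊓ V₀ ≤ V₀) f)
      ((w⁻¹ : (Γ(X, U₀ ⊓ V₀))ˣ) : Γ(X, U₀ ⊓ V₀)) i i) := by
    rintro ⟨_ | _⟩ <;> exact isUnit_one
  have hW := iSup_W2 U₀ V₀ hcov
  have hL := isInvertible_glueMod hcoc hunit hW
  have hcompat : ∀ i j, mres _ (inf_le_left : W2 U₀ V₀ i ⊓ W2 U₀ V₀ j ≤ W2 U₀ V₀ i)
      (a2 U₀ V₀ f i • glueGen hcoc i) =
      mres _ (inf_le_right : W2 U₀ V₀ i ⊓ W2 U₀ V₀ j ≤ W2 U₀ V₀ j)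
        (a2 U₀ V₀ f j • glueGen hcoc j) := by
    intro i j
    rw [mres_smul, mres_smul]
    have h1 := glueGen_transition hcoc i j
    change mres _ _ (glueGen hcoc i) = _ • mres _ _ (glueGen hcoc j) at h1
    rw [h1, smul_smul]
    congr 1
    rcases i with ⟨_ | _⟩ <;> rcases j with ⟨_ | _⟩
    · simp [a2, η2]
    · show (res (inf_le_left : U₀ ⊓ V₀ ≤ U₀) (1 : Γ(X, U₀)) *
        res (inf_le_right : U₀ ⊓ V₀ ≤ V₀) f : Γ(X, U₀ ⊓ V₀)) =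
          res (inf_le_right : U₀ ⊓ V₀ ≤ V₀) f
      rw [map_one, one_mul]
    · show (res (inf_le_left : V₀ ⊓ U₀ ≤ V₀) f * res (le_of_eq (inf_comm V₀ U₀))
        ((w⁻¹ : (Γ(X, U₀ ⊓ V₀))ˣ) : Γ(X, U₀ ⊓ V₀)) : Γ(X, V₀ ⊓ U₀)) =
          res (inf_le_right : V₀ ⊓ U₀ ≤ U₀) (1 : Γ(X, U₀))
      have : res (inf_le_left : V₀ ⊓ U₀ ≤ V₀) f = res (le_of_eq (inf_comm V₀ U₀))
          (res (inf_le_right : U₀ ⊓ V₀ ≤ V₀) f) := (Glue.res_res _ _ f).symm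
      rw [this, ← map_mul, huv, map_one, map_one]
    · simp [a2, η2]
  obtain ⟨t, ht, -⟩ := existsUnique_glue_sec _ (W2 U₀ V₀) hW
    (fun i => a2 U₀ V₀ f i • glueGen hcoc i) hcompat
  refine ⟨_, homOfSection _ t, hL, ?_, ?_⟩
  · have h := genLocus_inf_eq_basicOpen (homOfSection _ t)
      (isBasisOver_glueGen hcoc hunit ⟨false⟩) (1 : Γ(X, U₀))
      (by rw [val_homOfSection]; exact ht ⟨false⟩)
    have h2 : X.basicOpen (1 : Γ(X, U₀)) = U₀ := X.basicOpen_of_isUnit isUnit_one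
    have h' : CohB1.genLocus _ (homOfSection _ t) ⊓ U₀ = U₀ := h.trans h2
    intro y hy
    have : y ∈ CohB1.genLocus _ (homOfSection _ t) ⊓ U₀ := by
      rw [h']; exact hy
    exact this.1
  · exact genLocus_inf_eq_basicOpen (homOfSection _ t)
      (isBasisOver_glueGen hcoc hunit ⟨true⟩) f (by rw [val_homOfSection]; exact ht ⟨true⟩)

end Groth.Agent.H5.Curve3
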