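import Mathlib
import Groth.Agent.Lib.Helper5.Curve3.TwoCover
import Groth.Agent.Lib.Helper5.Curve3.H1Surj

/-!
# Invertible modules with a section vanishing at a prescribed closed point (dimension `≤ 1`).
-/

set_option autoImplicit false
universe u
open CategoryTheory CategoryTheory.Limits AlgebraicGeometry TopologicalSpace Opposite

namespace Groth.Agent.H5.Curve3

open Groth.Agent.LD Groth.Agent.LD.QC Groth.Agent.H5.Glue

section top

variable {T : Type*} [TopologicalSpace T]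

/-- in dimension `≤ 1`, a point with a proper generalization is closed. -/
lemma isClosed_singleton_of_generalization [T0Space T] (hdim : topologicalKrullDim T ≤ 1)
    {y' y : T} (h : y' ⤳ y) (hne : y' ≠ y) : IsClosed ({y} : Set T) := by
  by_contra hcl
  have hne' : closure ({y} : Set T) ≠ {y} := fun h => hcl (h ▸ isClosed_closure)
  obtain ⟨z, hz, hzy⟩ : ∃ z ∈ closure ({y} : Set T), z ≠ y := by
    by_contra hcon
    push Not at hcon
    apply hne'
    apply Set.Subset.antisymm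
    · intro z hz; exact hcon z hz
    · exact subset_closure
  have hyz : y ⤳ z := specializes_iff_mem_closure.mpr hz
  have h2 := two_le_dim_of_chain h hyz hne hzy.symm
  have : (2 : WithBot ℕ∞) ≤ 1 := h2.trans hdim
  exact absurd this (by decide)

end top

section

variable {X : Scheme.{u}}

lemma mem_basicOpen_iff_notMem_primeIdealOf {V : X.Opens} (hV : IsAffineOpen V) (f : Γ(X, V))
    (y : X) (hy : y ∈ V) :
    y ∈ X.basicOpen f ↔ f ∉ (hV.primeIdealOf ⟨y, hy⟩).asIdeal := by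
  have h1 : hV.fromSpec (hV.primeIdealOf ⟨y, hy⟩) = y := hV.fromSpec_primeIdealOf ⟨y, hy⟩
  have h2 : hV.primeIdealOf ⟨y, hy⟩ ∈ hV.fromSpec ⁻¹ᵁ X.basicOpen f ↔ y ∈ X.basicOpen f := by
    change hV.fromSpec (hV.primeIdealOf ⟨y, hy⟩) ∈ X.basicOpen f ↔ _
    rw [h1]
  rw [← h2, hV.fromSpec_preimage_basicOpen]
  exact PrimeSpectrum.mem_basicOpen _ _

/-- prime avoidance for the minimal primes. -/
lemma exists_mem_notMem_minimalPrimes (B : Type*) [CommRing B] [IsNoetherianRing B]
    (m : Ideal B) [m.IsPrime] (hm : m ∉ minimalPrimes B) :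
    ∃ f ∈ m, ∀ p ∈ minimalPrimes B, f ∉ p := by
  have hfin : (minimalPrimes B).Finite := minimalPrimes.finite_of_isNoetherianRing B
  by_contra hcon
  push Not at hcon
  have hsub : (m : Set B) ⊆ ⋃ p ∈ hfin.toFinset, (p : Set B) := by
    intro f hf
    obtain ⟨p, hp, hfp⟩ := hcon f hf
    exact Set.mem_biUnion (hfin.mem_toFinset.mpr hp) hfp
  obtain ⟨p, hp, hmp⟩ := (Ideal.subset_union_prime (s := hfin.toFinset) (f := fun p => p)
    ⊥ ⊥ (fun p hp _ _ => (hfin.mem_toFinset.mp hp).1.1)).mp hsub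
  have hp' := hfin.mem_toFinset.mp hp
  have : m = p := le_antisymm hmp (hp'.2 ⟨inferInstance, bot_le⟩ hmp)
  exact hm (this ▸ hp')

end

section

variable {X : Scheme.{u}}

/-- **on a Noetherian scheme of dimension `≤ 1`, every closed point with a proper generalization
is the zero of a section of an invertible module which generates at all non-closed points.** -/
theorem exists_invertible_section_vanishing_at [IsNoetherian X]
    (hdim : topologicalKrullDim X ≤ 1) (x x' : X) (hsp : x' ⤳ x) (hne : x' ≠ x) :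
    ∃ (L : X.Modules) (s : unitMod X ⟶ L), PicF.IsInvertible L ∧ x ∉ CohB1.genLocus L s ∧
      ∀ y : X, ¬ IsClosed ({y} : Set X) → y ∈ CohB1.genLocus L s := by
  obtain ⟨_, ⟨V, hV, rfl⟩, hxV, -⟩ :=
    X.isBasis_affineOpens.exists_subset_of_mem_open (Set.mem_univ x) isOpen_univ
  have hx'V : x' ∈ V := hsp.mem_open V.2 hxV
  haveI : IsNoetherianRing Γ(X, V) := IsLocallyNoetherian.component_noetherian ⟨V, hV⟩
  have hinj : Function.Injective hV.fromSpec := hV.fromSpec.isOpenEmbedding.injective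
  have hm : (hV.primeIdealOf ⟨x, hxV⟩).asIdeal ∉ minimalPrimes Γ(X, V) := by
    intro hmin
    have h1 : hV.fromSpec (hV.primeIdealOf ⟨x', hx'V⟩) ⤳ hV.fromSpec (hV.primeIdealOf ⟨x, hxV⟩) := by
      rw [hV.fromSpec_primeIdealOf, hV.fromSpec_primeIdealOf]
      exact hsp
    have h2 := hV.fromSpec.isOpenEmbedding.isInducing.specializes_iff.1 h1
    have hle : (hV.primeIdealOf ⟨x', hx'V⟩).asIdeal ≤ (hV.primeIdealOf ⟨x, hxV⟩).asIdeal :=
      (PrimeSpectrum.le_iff_specializes (R := Γ(X, V)) _ _).2 h2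
    have hge := hmin.2 ⟨(hV.primeIdealOf ⟨x', hx'V⟩).isPrime, bot_le⟩ hle
    have heq : hV.primeIdealOf ⟨x', hx'V⟩ = hV.primeIdealOf ⟨x, hxV⟩ :=
      PrimeSpectrum.ext (le_antisymm hle hge)
    apply hne
    have := congrArg hV.fromSpec heq
    rwa [hV.fromSpec_primeIdealOf, hV.fromSpec_primeIdealOf] at this
  obtain ⟨f, hfm, hf⟩ := exists_mem_notMem_minimalPrimes _ _ hm
  have hxf : x ∉ X.basicOpen f := by
    rw [mem_basicOpen_iff_notMem_primeIdealOf hV f x hxV]
    exact not_not.mpr hfm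
  have hclosed : ∀ y ∈ V, y ∉ X.basicOpen f → IsClosed ({y} : Set X) := by
    intro y hy hyf
    rw [mem_basicOpen_iff_notMem_primeIdealOf hV f y hy, not_not] at hyf
    obtain ⟨p, hp, hpq⟩ := Ideal.exists_minimalPrimes_le
      (bot_le : ⊥ ≤ (hV.primeIdealOf ⟨y, hy⟩).asIdeal)
    have hpne : p ≠ (hV.primeIdealOf ⟨y, hy⟩).asIdeal := fun h => hf p hp (h ▸ hyf)
    let P : PrimeSpectrum Γ(X, V) := ⟨p, hp.1.1⟩
    have hsp' : hV.fromSpec P ⤳ y := by
      have h1 : P ⤳ hV.primeIdealOf ⟨y, hy⟩ :=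
        (PrimeSpectrum.le_iff_specializes (R := Γ(X, V)) _ _).mp hpq
      have h2 := h1.map hV.fromSpec.continuous
      rwa [hV.fromSpec_primeIdealOf] at h2
    have hne' : hV.fromSpec P ≠ y := by
      intro h
      apply hpne
      have : P = hV.primeIdealOf ⟨y, hy⟩ :=
        hinj (h.trans (hV.fromSpec_primeIdealOf ⟨y, hy⟩).symm)
      exact congrArg PrimeSpectrum.asIdeal this
    exact isClosed_singleton_of_generalization hdim hsp' hne'
  -- the zero set is finite
  haveI : NoetherianSpace (Scheme.Opens.toScheme V) := noetherianSpace_of_isAffineOpen V hV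
  let Z' : Set (Scheme.Opens.toScheme V) :=
    ((Scheme.Opens.ι V ⁻¹ᵁ X.basicOpen f : (Scheme.Opens.toScheme V).Opens) : Set _)ᶜ
  have hZ'cl : IsClosed Z' :=
    (Scheme.Opens.ι V ⁻¹ᵁ X.basicOpen f).isOpen.isClosed_compl
  have hZ'mem : ∀ y : Scheme.Opens.toScheme V, y ∈ Z' ↔ y.1 ∉ X.basicOpen f := fun y => Iff.rfl
  have hZ'fin : Z'.Finite := by
    apply Curve2.finite_of_isClosed_of_closed_points (X := Scheme.Opens.toScheme V) Z' hZ'cl
    intro y hy
    have h1 := hclosed y.1 y.2 ((hZ'mem y).mp hy)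
    have h2 : ({y} : Set (Scheme.Opens.toScheme V)) =
        (Scheme.Opens.ι V) ⁻¹' ({y.1} : Set X) := by
      ext z
      simp only [Set.mem_singleton_iff, Set.mem_preimage]
      exact ⟨fun h => congrArg Subtype.val h, fun h => Subtype.ext h⟩
    rw [h2]
    exact h1.preimage (Scheme.Opens.ι V).continuous
  let Z : Set X := {y | y ∈ V ∧ y ∉ X.basicOpen f}
  have hZeq : Z = Subtype.val '' Z' := by
    ext y
    constructor
    · rintro ⟨hy1, hy2⟩
      exact ⟨⟨y, hy1⟩, (hZ'mem ⟨y, hy1⟩).mpr hy2, rfl⟩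
    · rintro ⟨z, hz, rfl⟩
      exact ⟨z.2, (hZ'mem z).mp hz⟩
  have hZfin : Z.Finite := hZeq ▸ hZ'fin.image _
  have hZcl : IsClosed Z := by
    have : Z = ⋃ y ∈ Z, ({y} : Set X) := by simp
    rw [this]
    exact hZfin.isClosed_biUnion (fun y hy => hclosed y hy.1 hy.2)
  let U₀ : X.Opens := ⟨Zᶜ, hZcl.isOpen_compl⟩
  have hcov : U₀ ⊔ V = ⊤ := by
    apply le_antisymm le_top
    intro y _
    by_cases hy : y ∈ V
    · exact Or.inr hy
    · exact Or.inl (fun h => hy h.1)
  have hle : U₀ ⊓ V ≤ X.basicOpen f := by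
    rintro y ⟨hy1, hy2⟩
    by_contra h
    exact hy1 ⟨hy2, h⟩
  obtain ⟨L, s, hL, h1, h2⟩ := exists_invertible_of_two_cover U₀ V hcov f
    (isUnit_res_of_le_basicOpen f inf_le_right hle)
  refine ⟨L, s, hL, ?_, ?_⟩
  · intro hxs
    have : x ∈ CohB1.genLocus L s ⊓ V := ⟨hxs, hxV⟩
    rw [h2] at this
    exact hxf this
  · intro y hy
    apply h1
    intro hyZ
    exact hy (hclosed y hyZ.1 hyZ.2)

end

end Groth.Agent.H5.Curve3
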