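import Mathlib
import Groth.Agent.Lib.Helper5.Curve2.M
import Groth.Agent.Lib.Lead.FF.H0Const
import Groth.Agent.Lib.Helper8.SmoothNormalRing
import Groth.Agent.Lib.Helper2.IntegralNhd

/-!
# Smooth connected schemes over a field are integral; global functions over an algebraically
closed field.
-/

set_option autoImplicit false
universe u
open CategoryTheory CategoryTheory.Limits AlgebraicGeometry TopologicalSpace Opposite

namespace Groth.Agent.H5.Curve3

open Groth.Agent.LD Groth.Agent.LD.QC

section

variable (k : Type u) [Field k] {X : Scheme.{u}} (f : X ⟶ Spec (CommRingCat.of k))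

/-- the stalks of a smooth scheme over a field are domains. -/
theorem isDomain_stalk_of_smooth [Smooth f] (x : X) : IsDomain (X.presheaf.stalk x) := by
  obtain ⟨_, ⟨V, hV, rfl⟩, hxV, -⟩ :=
    X.isBasis_affineOpens.exists_subset_of_mem_open (Set.mem_univ x) isOpen_univ
  have hsm : RingHom.Smooth (f.appLE ⊤ V le_top).hom :=
    HasRingHomProperty.appLE (P := @Smooth) f inferInstance ⟨⊤, isAffineOpen_top _⟩ ⟨V, hV⟩ le_top
  letI : Algebra Γ(Spec (CommRingCat.of k), ⊤) Γ(X, V) := (f.appLE ⊤ V le_top).hom.toAlgebra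
  haveI : Algebra.Smooth Γ(Spec (CommRingCat.of k), ⊤) Γ(X, V) := hsm
  let e : Γ(Spec (CommRingCat.of k), ⊤) ≃+* k :=
    (Scheme.ΓSpecIso (CommRingCat.of k)).commRingCatIsoToRingEquiv
  haveI : IsDomain Γ(Spec (CommRingCat.of k), ⊤) := e.toMulEquiv.isDomain k
  haveI : IsIntegrallyClosed Γ(Spec (CommRingCat.of k), ⊤) := IsIntegrallyClosed.of_equiv e.symm
  let q := (hV.primeIdealOf ⟨x, hxV⟩).asIdeal
  obtain ⟨hdom, -⟩ := Groth.Agent.H8.SmNR.normal_localization_of_smooth_domain
    Γ(Spec (CommRingCat.of k), ⊤) Γ(X, V) q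
  letI : Algebra Γ(X, V) (X.presheaf.stalk x) := (X.presheaf.germ V x hxV).hom.toAlgebra
  haveI : IsLocalization.AtPrime (X.presheaf.stalk x) q := hV.isLocalization_stalk ⟨x, hxV⟩
  let e2 : Localization.AtPrime q ≃ₐ[Γ(X, V)] X.presheaf.stalk x :=
    IsLocalization.algEquiv q.primeCompl _ _
  exact e2.symm.toMulEquiv.isDomain _

/-- a connected smooth scheme over a field is integral. -/
theorem isIntegral_of_smooth_connected [Smooth f] [ConnectedSpace X] : IsIntegral X := by
  haveI : IsLocallyNoetherian X := LocallyOfFiniteType.isLocallyNoetherian f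
  rw [Groth.Agent.H2.isIntegral_iff_connectedSpace_and_isDomain_stalk]
  exact ⟨inferInstance, fun x => isDomain_stalk_of_smooth k f x⟩

end

section

variable (k : Type u) [Field k] (X : Scheme.{u}) [X.Over (Spec (CommRingCat.of k))]
  [IsProper (X ↘ Spec (CommRingCat.of k))]

/-- on an integral proper scheme over an algebraically closed field the global functions are the
constants. -/
theorem finrank_HH0_eq_one_of_isAlgClosed [IsAlgClosed k] [IsIntegral X] :
    Module.finrank k (Coh.HH X (Coh.structureModule X) 0) = 1 := by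
  rw [FF.finrank_HH0_eq]
  letI : Algebra k Γ(X, ⊤) := (Coh.toGlobal (X ↘ Spec (CommRingCat.of k))).toAlgebra
  haveI := Curve.isLocallyNoetherian k X
  haveI : Module.Finite k (Coh.HH X (Coh.structureModule X) 0) :=
    Curve.finite_HH k X _ (PF.isCoh_unitMod X) 0
  haveI : Module.Finite k Γ(X, ⊤) := Module.Finite.equiv (FF.HH0LinearEquivΓ k X)
  haveI : IsDomain Γ(X, ⊤) := inferInstance
  have hbij : Function.Bijective (algebraMap k Γ(X, ⊤)) :=
    IsAlgClosed.algebraMap_bijective_of_isIntegral
  exact (LinearEquiv.ofBijective (Algebra.linearMap k Γ(X, ⊤)) hbij).finrank_eq.symm.trans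
    (Module.finrank_self k)

/-- **S18895**: on a smooth connected proper curve of genus `≥ 1` over an algebraically closed
field, `h⁰(L) ≤ deg L` for invertible `L` of positive degree. -/
theorem finrank_H0_le_deg [IsAlgClosed k] [Smooth (X ↘ Spec (CommRingCat.of k))]
    [ConnectedSpace X] (hX : topologicalKrullDim X = 1) (hg : 1 ≤ Curv2.genus k X)
    (L : X.Modules) (hL : PicF.IsInvertible L) (hdeg : 0 < Curv2.deg k X L 1) :
    (Module.finrank k (Coh.HH X L 0) : ℤ) ≤ Curv2.deg k X L 1 := by
  haveI : IsIntegral X := isIntegral_of_smooth_connected k (X ↘ Spec (CommRingCat.of k))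
  have h0 := finrank_HH0_eq_one_of_isAlgClosed k X
  haveI := Curve.isLocallyNoetherian k X
  haveI : Module.Finite k (Coh.HH X L 0) :=
    Curve.finite_HH k X _ (Curve2.isCoh_of_isInvertible hL) 0
  by_cases hs : Nontrivial (Coh.HH X L 0)
  · obtain ⟨s, hs⟩ := Curve2.exists_section_ne_zero_of_nontrivial_H0 k X L hs
    have h1 := Curve2.finrank_H0_le_deg_add_one k X hX.le h0 hL s hs
    rcases lt_or_eq_of_le h1.1 with h2 | h2
    · omega
    · have := Curve2.genus_eq_zero_of_max k X hX.le h0 hL s hs h2 hdeg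
      omega
  · rw [not_nontrivial_iff_subsingleton] at hs
    haveI := hs
    rw [Module.finrank_zero_of_subsingleton]
    exact_mod_cast hdeg.le

end

end Groth.Agent.H5.Curve3
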