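import Mathlib
import Groth.Agent.Lib.Helper5.Curve3.H1Surj
import Groth.Agent.Lib.Helper2.LerayLin
import Groth.Agent.Lib.Lead.QC.PushFin
import Groth.Agent.Lib.Lead.QC.IdealMod

/-!
# Genus and finite morphisms which are generically closed immersions.
-/

set_option autoImplicit false
universe u
open CategoryTheory CategoryTheory.Limits AlgebraicGeometry TopologicalSpace Opposite

namespace Groth.Agent.H5.Curve3

open Groth.Agent.LD Groth.Agent.LD.QC Groth.Agent.H5.Glue

section

variable (k : Type u) [Field k] {X Y : Scheme.{u}} [X.Over (Spec (CommRingCat.of k))]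
  [Y.Over (Spec (CommRingCat.of k))] (f : Y ⟶ X) [f.IsOver (Spec (CommRingCat.of k))]

/-- **linear Leray for affine morphisms.** -/
theorem nonempty_HH_push_linearEquiv [IsAffineHom f] (G : Y.Modules) [G.IsQuasicoherent] (n : ℕ) :
    Nonempty (Coh.HH X ((Scheme.Modules.pushforward f).obj G) n ≃ₗ[k] Coh.HH Y G n) := by
  apply Groth.Agent.H2.nonempty_HH_pushforward_linearEquiv k f G
  intro q
  exact SC.isZero_rightDerived_push f.base {V : X.Opens | IsAffineOpen V} X.isBasis_affineOpens 0
    (fun V hV i _ => SC.subsingleton_ext_of_isAffineOpen G i (f ⁻¹ᵁ V) (hV.preimage f)) q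
    (Nat.zero_le _)

end

section

variable {X Y : Scheme.{u}} (f : Y ⟶ X)

lemma unitToPush_app (W : X.Opens) (t : Γ(X, W)) :
    (ClSub.unitToPush f).app W t = f.app W t := rfl

/-- `O_X → f_* O_Y` is locally surjective over an open where `f` is a closed immersion. -/
lemma locSurjAt_unitToPush (U : X.Opens) (hfU : IsClosedImmersion (f ∣_ U)) (x : X) (hx : x ∈ U) :
    LocSurjAt (ClSub.unitToPush f) x := by
  intro V z hxV
  obtain ⟨_, ⟨W', hW', rfl⟩, hxW', hW'V⟩ :=
    (U.toScheme.isBasis_affineOpens).exists_subset_of_mem_open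
      (show (⟨x, hx⟩ : U.toScheme) ∈ ((U.ι ⁻¹ᵁ V : U.toScheme.Opens) : Set U.toScheme) from hxV)
      (U.ι ⁻¹ᵁ V).isOpen
  have hW : IsAffineOpen (U.ι ''ᵁ W') := hW'.image_of_isOpenImmersion U.ι
  have hWV : U.ι ''ᵁ W' ≤ V := by
    rintro _ ⟨y, hy, rfl⟩
    exact hW'V hy
  have hxW : x ∈ U.ι ''ᵁ W' := ⟨⟨x, hx⟩, hxW', rfl⟩
  have hsurj : Function.Surjective ((f ∣_ U).app W') := (f ∣_ U).app_surjective W' hW'
  have hsurj' : Function.Surjective (f.app (U.ι ''ᵁ W')) := by
    rw [morphismRestrict_app] at hsurj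
    intro y
    obtain ⟨t, ht⟩ := hsurj
      (Y.presheaf.map (eqToHom (image_morphismRestrict_preimage f U W')).op y)
    refine ⟨t, ?_⟩
    have hinj : Function.Injective
        (Y.presheaf.map (eqToHom (image_morphismRestrict_preimage f U W')).op) :=
      ((ConcreteCategory.bijective_of_isIso _)).1
    exact hinj ht
  refine ⟨U.ι ''ᵁ W', hWV, hxW, ?_⟩
  obtain ⟨t, ht⟩ := hsurj'
    (((Scheme.Modules.pushforward f).obj (Coh.structureModule Y)).presheaf.map (homOfLE hWV).op z)
  exact ⟨t, ht⟩

end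

section

variable (k : Type u) [Field k] (X Y : Scheme.{u}) [X.Over (Spec (CommRingCat.of k))]
  [Y.Over (Spec (CommRingCat.of k))] [IsProper (X ↘ Spec (CommRingCat.of k))]

/-- **S1566**: a finite morphism to a proper scheme of dimension `≤ 1` which is a closed immersion
over a dense open does not increase `h¹(O)`. -/
theorem genus_le_of_finite_closedImmersion_dense (hdim : topologicalKrullDim X ≤ 1) (f : Y ⟶ X)
    [IsFinite f]
    (hf : f ≫ (X ↘ (Spec (CommRingCat.of k))) = Y ↘ (Spec (CommRingCat.of k)))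
    (U : X.Opens) (hU : Dense (U : Set X)) (hfU : IsClosedImmersion (f ∣_ U)) :
    Curv2.genus k Y ≤ Curv2.genus k X := by
  haveI : f.IsOver (Spec (CommRingCat.of k)) := ⟨hf⟩
  haveI := Curve.isLocallyNoetherian k X
  haveI := Curve.compactSpace k X
  haveI : IsNoetherian X := {}
  have hA : Coh.IsCoh (Coh.structureModule X) := PF.isCoh_unitMod X
  haveI : (Coh.structureModule Y).IsQuasicoherent := (inferInstance : (unitMod Y).IsQuasicoherent)
  have hB : Coh.IsCoh ((Scheme.Modules.pushforward f).obj (Coh.structureModule Y)) :=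
    ⟨qc_pushforward f _, isFiniteType_pushforward_of_isFinite f _ (PF.isCoh_unitMod Y).2⟩
  have hsurj := surjective_H1_of_locSurjAt k X hdim hA hB (ClSub.unitToPush f) (fun x hx => by
    apply locSurjAt_unitToPush f U hfU x
    by_contra hxU
    exact hx (isClosed_singleton_of_notMem_dense hdim (U : Set X) U.isOpen hU x hxU))
  obtain ⟨e⟩ := nonempty_HH_push_linearEquiv k f (Coh.structureModule Y) 1
  haveI : Module.Finite k (Coh.HH X (Coh.structureModule X) 1) := Curve.finite_HH k X _ hA 1
  have h1 := LinearMap.finrank_le_finrank_of_surjective hsurj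
  unfold Curv2.genus
  rw [← e.finrank_eq]
  exact h1

end

end Groth.Agent.H5.Curve3
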