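import Mathlib
import Groth.Agent.Lib.Helper5.Curve3.Comp
import Groth.Agent.Lib.Helper5.Curve2.M
import Groth.Agent.Lib.Lead.QC.SpanEpi
import Groth.Agent.Lib.Lead.QC.PullInv
import Groth.Agent.Lib.Lead.QC.AmpleBase

/-!
# Invertible modules of nonpositive degree on the components of a reduced connected curve.
-/

set_option autoImplicit false
universe u
open CategoryTheory CategoryTheory.Limits AlgebraicGeometry TopologicalSpace Opposite

namespace Groth.Agent.H5.Curve3

open Groth.Agent.LD Groth.Agent.LD.QC Groth.Agent.H5.Glue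

section

variable {X : Scheme.{u}}

/-- a section vanishing locally vanishes. -/
lemma hom_eq_zero_of_locally_zero {L : X.Modules} (s : unitMod X ⟶ L)
    (h : ∀ x : X, ∃ U : X.Opens, x ∈ U ∧ SecTwist.val s U = 0) : s = 0 := by
  rw [← homOfSection_sectionOfHom s]
  have : sectionOfHom s = 0 := by
    apply Curve2.sec_ext L ⊤
    intro x hx
    obtain ⟨U, hxU, hU⟩ := h x
    have h1 := TopCat.Presheaf.germ_res_apply L.presheaf (homOfLE (le_top : U ≤ ⊤)) x hxU
      (sectionOfHom s)
    have h2 : L.presheaf.map (homOfLE (le_top : U ≤ ⊤)).op (sectionOfHom s) = SecTwist.val s U :=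
      val_res s le_top
    rw [← h1, h2, hU]
    exact (map_zero (L.presheaf.germ U x hxU).hom).trans (map_zero (L.presheaf.germ ⊤ x hx).hom).symm
  rw [this, homOfSection_zero]

/-- on a reduced scheme a nonzero section of an invertible module generates somewhere. -/
lemma genLocus_nonempty_of_ne_zero [IsReduced X] {L : X.Modules} (hL : PicF.IsInvertible L)
    (s : unitMod X ⟶ L) (hs : s ≠ 0) : ∃ x : X, x ∈ CohB1.genLocus L s := by
  by_contra hcon
  push Not at hcon
  apply hs
  apply hom_eq_zero_of_locally_zero
  intro x
  obtain ⟨U, e, hxU, he⟩ := (isInvertible_iff_exists_isBasisOver L).mp hL x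
  obtain ⟨a, ha⟩ := he.exists_coord (SecTwist.val s U)
  have h := genLocus_inf_eq_basicOpen s he a ha
  have hbot : X.basicOpen a = ⊥ := by
    rw [← h]
    ext y
    simp only [Opens.coe_inf, Set.mem_inter_iff, SetLike.mem_coe, Opens.coe_bot,
      Set.mem_empty_iff_false, iff_false, not_and]
    intro hy
    exact absurd hy (hcon y)
  have ha0 : a = 0 := (AlgebraicGeometry.basicOpen_eq_bot_iff a).mp hbot
  exact ⟨U, hxU, by rw [ha, ha0]; exact zero_smul _ _⟩

/-- an isomorphism generates everywhere. -/
lemma genLocus_eq_top_of_isIso {L : X.Modules} (s : unitMod X ⟶ L) [IsIso s] :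
    CohB1.genLocus L s = ⊤ := by
  apply le_antisymm le_top
  apply le_sSup
  change IsIso ((Scheme.Modules.restrictFunctor (⊤ : X.Opens).ι).map s)
  infer_instance

end

section

variable (k : Type u) [Field k] (X : Scheme.{u}) [X.Over (Spec (CommRingCat.of k))]
  [IsProper (X ↘ Spec (CommRingCat.of k))] [IsNoetherian X]

/-- if `s` generates somewhere on a one dimensional component on which `L` has degree `≤ 0`, then
it generates on the whole component. -/
lemma component_subset_genLocus (L : X.Modules) (hL : PicF.IsInvertible L) (s : unitMod X ⟶ L)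
    (C : Set X) (hC : C ∈ irreducibleComponents (X : Type u))
    (hdimC : topologicalKrullDim C = 1)
    (hdeg : @Curv2.deg k _ (X.irreducibleComponentIdeal C hC).radical.subscheme
      ⟨(X.irreducibleComponentIdeal C hC).radical.subschemeι ≫ (X ↘ (Spec (CommRingCat.of k)))⟩
      ((Scheme.Modules.pullback (X.irreducibleComponentIdeal C hC).radical.subschemeι).obj L) 1 ≤ 0)
    (y : X) (hyC : y ∈ C) (hy : y ∈ CohB1.genLocus L s) : C ⊆ (CohB1.genLocus L s : Set X) := by
  letI : (X.irreducibleComponentIdeal C hC).radical.subscheme.Over (Spec (CommRingCat.of k)) :=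
    ⟨(X.irreducibleComponentIdeal C hC).radical.subschemeι ≫ (X ↘ (Spec (CommRingCat.of k)))⟩
  haveI : IsProper ((X.irreducibleComponentIdeal C hC).radical.subscheme ↘
      Spec (CommRingCat.of k)) := (comp_facts k X C hC).1
  haveI : IsIntegral (X.irreducibleComponentIdeal C hC).radical.subscheme := (comp_facts k X C hC).2
  have hgl := genLocus_pbHom (X.irreducibleComponentIdeal C hC).radical.subschemeι hL s
  have hne0 : pbHom (X.irreducibleComponentIdeal C hC).radical.subschemeι s ≠ 0 :=
    Curve2.ne_zero_of_mem_genLocus _ _ (⟨y, hyC⟩ : (X.irreducibleComponentIdeal C hC).radical.subscheme)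
      (by rw [hgl]; exact hy)
  have h := Curve.deg_le_of_ne_zero k (X.irreducibleComponentIdeal C hC).radical.subscheme
    hdimC.le (Curve.isInvertible_structureModule _)
    (isInvertible_pullback (X.irreducibleComponentIdeal C hC).radical.subschemeι hL) _ hne0
  rw [Curve.deg_structureModule] at h
  haveI : IsIso (pbHom (X.irreducibleComponentIdeal C hC).radical.subschemeι s) :=
    h.2 (le_antisymm h.1 hdeg)
  have htop := genLocus_eq_top_of_isIso (pbHom (X.irreducibleComponentIdeal C hC).radical.subschemeι s)
  rw [hgl] at htop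
  intro z hz
  have : (⟨z, hz⟩ : (X.irreducibleComponentIdeal C hC).radical.subscheme) ∈
      (X.irreducibleComponentIdeal C hC).radical.subschemeι ⁻¹ᵁ CohB1.genLocus L s := by
    rw [htop]; trivial
  exact this

/-- **S7641**. -/
theorem h0_subsingleton_or_trivial [IsReduced X] [ConnectedSpace X]
    (hdim : ∀ (C : Set X), C ∈ irreducibleComponents (X : Type u) → topologicalKrullDim C = 1)
    (L : X.Modules) (hL : PicF.IsInvertible L)
    (hdeg : ∀ (C : Set X) (hC : C ∈ irreducibleComponents (X : Type u)),
      @Curv2.deg k _ (X.irreducibleComponentIdeal C hC).radical.subscheme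
        ⟨(X.irreducibleComponentIdeal C hC).radical.subschemeι ≫ (X ↘ (Spec (CommRingCat.of k)))⟩
        ((Scheme.Modules.pullback (X.irreducibleComponentIdeal C hC).radical.subschemeι).obj L) 1
          ≤ 0) :
    Subsingleton (Coh.HH X L 0) ∨ Nonempty (L ≅ Coh.structureModule X) := by
  by_cases hsub : Subsingleton (Coh.HH X L 0)
  · exact Or.inl hsub
  · right
    rw [not_subsingleton_iff_nontrivial] at hsub
    obtain ⟨s, hs⟩ := Curve2.exists_section_ne_zero_of_nontrivial_H0 k X L hsub
    obtain ⟨x₀, hx₀⟩ := genLocus_nonempty_of_ne_zero hL s hs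
    -- the generating locus is a union of components
    have hGeq : (CohB1.genLocus L s : Set X) =
        ⋃₀ {C | C ∈ irreducibleComponents (X : Type u) ∧ C ⊆ (CohB1.genLocus L s : Set X)} := by
      apply Set.Subset.antisymm
      · intro y hy
        have hyC : y ∈ irreducibleComponent y := mem_irreducibleComponent
        have hC := irreducibleComponent_mem_irreducibleComponents y
        exact ⟨irreducibleComponent y, ⟨hC, component_subset_genLocus k X L hL s _ hC
          (hdim _ hC) (hdeg _ hC) y hyC hy⟩, hyC⟩
      · rintro y ⟨C, ⟨-, hCG⟩, hyC⟩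
        exact hCG hyC
    have hfin : (irreducibleComponents X).Finite := NoetherianSpace.finite_irreducibleComponents
    have hclosed : IsClosed (CohB1.genLocus L s : Set X) := by
      rw [hGeq, Set.sUnion_eq_biUnion]
      exact Set.Finite.isClosed_biUnion (hfin.subset (fun C hC => hC.1))
        (fun C hC => isClosed_of_mem_irreducibleComponents C hC.1)
    have hclopen : IsClopen (CohB1.genLocus L s : Set X) := ⟨hclosed, (CohB1.genLocus L s).isOpen⟩
    have huniv := hclopen.eq_univ ⟨x₀, hx₀⟩
    have htop : CohB1.genLocus L s = ⊤ := by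
      ext y
      simp only [Opens.coe_top, Set.mem_univ, iff_true]
      rw [huniv]; trivial
    haveI := isIso_of_genLocus_eq_top s htop
    exact ⟨(asIso s).symm⟩

end

end Groth.Agent.H5.Curve3
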