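import Mathlib
import Groth.Agent.Lib.Helper5.Curve3.LocEq
import Groth.Agent.Lib.Helper5.Curve3.Comp
import Groth.Agent.Lib.Lead.QC.TensorPow
import Groth.Agent.Lib.Lead.QC.PullInv

/-!
# A proper scheme of dimension `≤ 1` over a field carries an ample invertible module.
-/

set_option autoImplicit false
universe u
open CategoryTheory CategoryTheory.Limits AlgebraicGeometry TopologicalSpace Opposite

namespace Groth.Agent.H5.Curve3

open Groth.Agent.LD Groth.Agent.LD.QC Groth.Agent.H5.Glue

section

variable {X : Scheme.{u}}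

/-- finitely many closed points with proper generalizations are the zeros of a section of an
invertible module generating at all non-closed points. -/
theorem exists_invertible_section_vanishing_on [IsNoetherian X]
    (hdim : topologicalKrullDim X ≤ 1) (F : Finset X)
    (hF : ∀ x ∈ F, ∃ x' : X, x' ⤳ x ∧ x' ≠ x) :
    ∃ (L : X.Modules) (s : unitMod X ⟶ L), PicF.IsInvertible L ∧
      (∀ x ∈ F, x ∉ CohB1.genLocus L s) ∧
      ∀ y : X, ¬ IsClosed ({y} : Set X) → y ∈ CohB1.genLocus L s := by
  classical
  induction F using Finset.induction_on with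
  | empty =>
    refine ⟨unitMod X, 𝟙 _, isInvertible_unit X, fun x hx => absurd hx (Finset.notMem_empty x), ?_⟩
    intro y _
    rw [genLocus_id]
    trivial
  | insert x F hxF ih =>
    obtain ⟨L, s, hL, h1, h2⟩ := ih (fun y hy => hF y (Finset.mem_insert_of_mem hy))
    obtain ⟨x', hsp, hne⟩ := hF x (Finset.mem_insert_self x F)
    obtain ⟨L', s', hL', h1', h2'⟩ := exists_invertible_section_vanishing_at hdim x x' hsp hne
    refine ⟨CohB1.tensorMod L L', SecTwist.tmulHom s s', isInvertible_tensorMod hL hL', ?_, ?_⟩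
    · intro y hy
      rw [genLocus_tmulHom hL hL']
      rcases Finset.mem_insert.mp hy with rfl | hy
      · exact fun h => h1' h.2
      · exact fun h => h1 y hy h.1
    · intro y hy
      rw [genLocus_tmulHom hL hL']
      exact ⟨h2 y hy, h2' y hy⟩

end

section

variable (k : Type u) [Field k] (X : Scheme.{u}) [X.Over (Spec (CommRingCat.of k))]
  [IsProper (X ↘ Spec (CommRingCat.of k))]

lemma topologicalKrullDim_nonpos_of_subsingleton (T : Type*) [TopologicalSpace T]
    [Subsingleton T] : topologicalKrullDim T ≤ 0 := by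
  haveI : Subsingleton (IrreducibleCloseds T) := by
    refine ⟨fun a b => ?_⟩
    apply IrreducibleCloseds.ext
    ext x
    obtain ⟨y, hy⟩ := a.2.nonempty
    obtain ⟨z, hz⟩ := b.2.nonempty
    constructor
    · intro _; rw [Subsingleton.elim x z]; exact hz
    · intro _; rw [Subsingleton.elim x y]; exact hy
  exact Order.krullDim_nonpos_of_subsingleton

include k in
/-- **a proper scheme of dimension `≤ 1` over a field has an ample invertible module.** -/
theorem exists_isAmple_of_proper_dim_le_one (hdim : topologicalKrullDim X ≤ 1) :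
    ∃ L : X.Modules, CohB1.IsAmple L := by
  haveI := Curve2.isNoetherian_of_proper k X
  classical
  by_cases hne : Nonempty X
  swap
  · rw [not_nonempty_iff] at hne
    haveI : IsAffine X := isAffine_of_isEmpty
    exact ⟨unitMod X, isAmple_of_isAffine _ (isInvertible_unit X)⟩
  have hfin : (irreducibleComponents X).Finite := NoetherianSpace.finite_irreducibleComponents
  have hgen : ∀ C ∈ irreducibleComponents X, ∃ η : X, IsGenericPoint η C := fun C hC =>
    QuasiSober.sober hC.1 (isClosed_of_mem_irreducibleComponents C hC)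
  choose! η hη using hgen
  let pt : Set X → X := fun C => if h : ∃ y ∈ C, y ≠ η C then h.choose else η C
  let F : Finset X := (hfin.toFinset.filter (fun C => ∃ y ∈ C, y ≠ η C)).image pt
  have hF : ∀ x ∈ F, ∃ x' : X, x' ⤳ x ∧ x' ≠ x := by
    intro x hx
    obtain ⟨C, hC, rfl⟩ := Finset.mem_image.mp hx
    rw [Finset.mem_filter, hfin.mem_toFinset] at hC
    obtain ⟨hC1, hC2⟩ := hC
    have hpt : pt C = hC2.choose := dif_pos hC2
    obtain ⟨hy1, hy2⟩ := hC2.choose_spec
    refine ⟨η C, ?_, ?_⟩
    · rw [hpt, specializes_iff_mem_closure, (hη C hC1).def]; exact hy1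
    · rw [hpt]; exact hy2.symm
  obtain ⟨L, s, hL, h1, h2⟩ := exists_invertible_section_vanishing_on hdim F hF
  refine ⟨L, (isAmple_iff_deg_pos k X hdim L hL).mpr ?_⟩
  intro C hC hdimC
  have hC2 : ∃ y ∈ C, y ≠ η C := by
    by_contra hcon
    push Not at hcon
    haveI : Subsingleton C :=
      ⟨fun a b => Subtype.ext ((hcon a.1 a.2).trans (hcon b.1 b.2).symm)⟩
    have h0 := topologicalKrullDim_nonpos_of_subsingleton C
    rw [hdimC] at h0
    exact absurd h0 (by decide)
  have hpt : pt C = hC2.choose := dif_pos hC2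
  obtain ⟨hxC, hxη⟩ := hC2.choose_spec
  rw [← hpt] at hxC hxη
  have hxF : pt C ∈ F := Finset.mem_image.mpr
    ⟨C, Finset.mem_filter.mpr ⟨hfin.mem_toFinset.mpr hC, hC2⟩, rfl⟩
  have hxs : pt C ∉ CohB1.genLocus L s := h1 _ hxF
  have hηC : η C ∈ C := by
    have h3 : η C ∈ closure ({η C} : Set X) := subset_closure rfl
    rwa [(hη C hC).def] at h3
  have hηncl : ¬ IsClosed ({η C} : Set X) := by
    intro hcl
    apply hxη
    have : pt C ∈ closure ({η C} : Set X) := by rw [(hη C hC).def]; exact hxC
    rw [hcl.closure_eq] at this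
    exact this
  have hηs : η C ∈ CohB1.genLocus L s := h2 _ hηncl
  letI : (X.irreducibleComponentIdeal C hC).radical.subscheme.Over (Spec (CommRingCat.of k)) :=
    ⟨(X.irreducibleComponentIdeal C hC).radical.subschemeι ≫ (X ↘ (Spec (CommRingCat.of k)))⟩
  haveI : IsProper ((X.irreducibleComponentIdeal C hC).radical.subscheme ↘
      Spec (CommRingCat.of k)) := (comp_facts k X C hC).1
  haveI : IsIntegral (X.irreducibleComponentIdeal C hC).radical.subscheme := (comp_facts k X C hC).2
  have hgl := genLocus_pbHom (X.irreducibleComponentIdeal C hC).radical.subschemeι hL s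
  have hne0 : pbHom (X.irreducibleComponentIdeal C hC).radical.subschemeι s ≠ 0 :=
    Curve2.ne_zero_of_mem_genLocus _ _ (⟨η C, hηC⟩ : (X.irreducibleComponentIdeal C hC).radical.subscheme)
      (by rw [hgl]; exact hηs)
  exact Curve2.deg_pos_of_section k _ hdimC.le
    (isInvertible_pullback (X.irreducibleComponentIdeal C hC).radical.subschemeι hL) _ hne0
    (⟨pt C, hxC⟩ : (X.irreducibleComponentIdeal C hC).radical.subscheme)
    (by rw [hgl]; exact hxs)

end

end Groth.Agent.H5.Curve3
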