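import Mathlib
import Groth.Agent.Lib.Helper5.Curve3.Proj
import Groth.Agent.Lib.Helper5.VAmple.L
import Groth.Agent.Lib.Lead.PN.OverBridge

/-!
# A proper scheme of dimension `≤ 1` over a field is H-projective.
-/

set_option autoImplicit false
universe u
open CategoryTheory CategoryTheory.Limits AlgebraicGeometry TopologicalSpace Opposite

namespace Groth.Agent.H5.Curve3

open Groth.Agent.LD Groth.Agent.LD.QC

variable (k : Type u) [Field k] (X : Scheme.{u}) [X.Over (Spec (CommRingCat.of k))]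
  [IsProper (X ↘ Spec (CommRingCat.of k))]

/-- **S7645**. -/
theorem exists_closedImmersion_projSpace (hdim : topologicalKrullDim X ≤ 1) :
    ∃ (n : ℕ) (i : X ⟶ CohB1.ProjSpace n k), IsClosedImmersion i ∧
      i ≫ CohB1.ProjSpace.toSpec n k = X ↘ (Spec (CommRingCat.of k)) := by
  obtain ⟨L, hL⟩ := exists_isAmple_of_proper_dim_le_one k X hdim
  have hS : ∃ N : (Spec (CommRingCat.of k)).Modules, CohB1.IsAmple N :=
    ⟨unitMod _, isAmple_of_isAffine _ (isInvertible_unit _)⟩
  obtain ⟨n, i, hi, hif⟩ := (Groth.Agent.H5.VAmple.closedImmersion_iff_proper_ample hS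
    (X ↘ (Spec (CommRingCat.of k)))).1.mpr ⟨inferInstance, L, hL⟩
  haveI := hi
  refine ⟨n, i ≫ (PN.OB.bridge n k).inv, inferInstance, ?_⟩
  rw [Category.assoc, PN.OB.bridge_inv_toSpec]
  exact hif

end Groth.Agent.H5.Curve3
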