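import Mathlib
import Groth.Agent.Lib.Lead.SC.Dim1Open
import Groth.Agent.Lib.Lead.SC.SerreCrit

set_option autoImplicit false
universe u
open CategoryTheory CategoryTheory.Limits AlgebraicGeometry TopologicalSpace Opposite

namespace Groth.Agent.H5.S1607

open Groth.Agent.LD

theorem main (X : Scheme.{u}) [IsAffine X]
    (hX : ∀ x : X, IsNoetherianRing (X.presheaf.stalk x) ∧ ringKrullDim (X.presheaf.stalk x) ≤ 1)
    (U : X.Opens) (hU : IsCompact (U : Set X)) : IsAffineOpen U := by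
  haveI : CompactSpace U := isCompact_iff_compactSpace.mp hU
  haveI : QuasiCompact U.ι := inferInstance
  let T : Scheme.{u} := (U.ι ⁻¹ᵁ (⊤ : X.Opens)).toScheme
  have htop : U.ι ⁻¹ᵁ (⊤ : X.Opens) = ⊤ := rfl
  haveI : CompactSpace T := by
    change CompactSpace ((U.ι ⁻¹ᵁ (⊤ : X.Opens) : (U : Scheme.{u}).Opens))
    rw [htop]
    exact isCompact_iff_compactSpace.mp (by simpa using CompactSpace.isCompact_univ)
  have hT : IsAffine T := by
    apply SC.isAffine_of_h1Zero
    intro I i hi hI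
    haveI := hI
    exact SC.h1Zero_of_HH I
      (SC.subsingleton_HH_preimage_dim_le_one hX U ⊤ (isAffineOpen_top X) I 0)
  change IsAffine (U : Scheme.{u})
  haveI : IsIso (U.ι ⁻¹ᵁ (⊤ : X.Opens)).ι := by
    rw [htop]
    haveI : Surjective (⊤ : (U : Scheme.{u}).Opens).ι := ⟨fun x => ⟨⟨x, trivial⟩, rfl⟩⟩
    exact (isIso_iff_isOpenImmersion_and_surjective _).mpr ⟨inferInstance, inferInstance⟩
  exact IsAffine.of_isIso (inv (U.ι ⁻¹ᵁ (⊤ : X.Opens)).ι)

end Groth.Agent.H5.S1607
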